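import Cfsg.Agent.H107.NB.OrthTor_m3
import Cfsg.Agent.ClassicalGeometry.PSL2Basic
import Cfsg.Agent.H7.NBpCount
import Cfsg.Agent.Prune
set_option linter.all false
prune_inst 0x7f00000000000000000000000000000000000000000000000000000000000000000000000000000000000000000000000000000000000000000000000000000000000000000000000000000000000000003fffffffffffffffffffffffffffbeffbdffffffff
open scoped Cfsg.Agent.FastGrp

-- part: H107/NB/OrthPlane
section
/-!
# S5003: orthogonal groups, `p ∣ q ^ 2 - 1`: the element of order `p`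

* `exists_trace`: `c : F` with `c ^ 2 ≠ 4` such that `g ^ p = 1` whenever `g ^ 2 = c g - 1` in an `F`-algebra;
* `nb_dvd`: `NB p (POmega F Q)`, `7 ≤ dim`, `p ∣ q ^ 2 - 1`, from the induction hypothesis.
-/

set_option autoImplicit false
set_option linter.unusedSectionVars false

namespace Cfsg.Agent.H107.NB.OrthPlane

open QuadraticMap Cfsg Matrix
open Cfsg.Agent.LieClassical.OrthCore Cfsg.Agent.LieClassical.OrthTrans Cfsg.Agent.LieClassical.OrthSimple
open Cfsg.Agent.LieClassical.OrthFinite Cfsg.Agent.GenOrth Cfsg.Agent.TitsThree.KSideO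
open Cfsg.Agent.H7.NBp Cfsg.Agent.H718.NBIH

/-- powers of an element with `g ^ 2 = c g - 1` -/
theorem exists_pow {F : Type*} [Field F] (c : F) (n : ℕ) :
    ∃ a b : F, ∀ (g : Matrix (Fin 2) (Fin 2) F), g * g = c • g - 1 → g ^ n = a • g + b • 1 := by
  induction n with
  | zero => exact ⟨0, 1, fun g _ => by rw [pow_zero, zero_smul, zero_add, one_smul]⟩
  | succ n ih =>
    obtain ⟨a, b, h⟩ := ih
    refine ⟨a * c + b, -a, fun g hg => ?_⟩
    rw [pow_succ, h g hg, add_mul, smul_mul_assoc, smul_mul_assoc, one_mul, hg]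
    module

theorem cayley {F : Type*} [Field F] (g : Matrix (Fin 2) (Fin 2) F) (hg : g.det = 1) : g * g = g.trace • g - 1 := by
  rw [Matrix.det_fin_two] at hg
  ext i j
  fin_cases i <;> fin_cases j <;>
  simp only [Matrix.mul_apply, Fin.sum_univ_two, Matrix.sub_apply, Matrix.smul_apply, Matrix.trace_fin_two, smul_eq_mul,
    Fin.zero_eta, Fin.mk_one, Matrix.one_apply_eq, Matrix.one_apply_ne (show (0 : Fin 2) ≠ 1 by decide),
    Matrix.one_apply_ne (show (1 : Fin 2) ≠ 0 by decide)]
  · linear_combination -hg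
  · ring
  · ring
  · linear_combination -hg

theorem pow_unip {R : Type*} [Ring R] {h : R} (hh : (h - 1) * (h - 1) = 0) (n : ℕ) : h ^ n = 1 + n • (h - 1) := by
  induction n with
  | zero => rw [pow_zero, zero_smul, add_zero]
  | succ n ih =>
    have h1 : (h - 1) * h = h - 1 := by
      have : (h - 1) * h = (h - 1) * (h - 1) + (h - 1) := by noncomm_ring
      rw [this, hh, zero_add]
    rw [pow_succ, ih, add_mul, one_mul, smul_mul_assoc, h1, succ_nsmul]
    abel

/-- the trace of an element of order `p` -/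
theorem exists_trace {F : Type*} [Field F] [Fintype F] {p : ℕ} [hp : Fact p.Prime] (h2 : p ≠ 2)
    (hd : p ∣ Fintype.card F ^ 2 - 1) :
    ∃ c : F, 4 - c * c ≠ 0 ∧ ∀ g : Matrix (Fin 2) (Fin 2) F, g * g = c • g - 1 → g ^ p = 1 := by
  classical
  have hpF : (p : F) ≠ 0 := by
    intro h0
    obtain ⟨r, hr⟩ := CharP.exists F
    have : Fact r.Prime := ⟨CharP.char_is_prime F r⟩
    have h1 : r ∣ p := (CharP.cast_eq_zero_iff F r p).1 h0
    have h3 : r = p := (Nat.prime_dvd_prime_iff_eq this.out hp.out).1 h1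
    subst h3
    obtain ⟨n, -, hn⟩ := FiniteField.card F r
    have h4 : r ∣ Fintype.card F ^ 2 := by
      rw [hn, ← pow_mul]
      exact dvd_pow_self r (by have := n.pos; omega)
    have h5 : r ∣ 1 := by
      have h6 : 1 ≤ Fintype.card F ^ 2 := Nat.one_le_pow _ _ Fintype.card_pos
      have h7 := Nat.dvd_sub h4 hd
      rwa [Nat.sub_sub_self h6] at h7
    exact hp.out.one_lt.ne' (Nat.dvd_one.1 h5)
  have hcard : p ∣ Nat.card (Matrix.SpecialLinearGroup (Fin 2) F) := by
    rw [Cfsg.Agent.ClassicalGeometry.PSL2Basic.card_SL2]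
    exact dvd_mul_of_dvd_right hd _
  obtain ⟨g₀, hg₀⟩ := exists_prime_orderOf_dvd_card' p hcard
  obtain ⟨g, hg⟩ : ∃ g : Matrix (Fin 2) (Fin 2) F, g = g₀.1 := ⟨_, rfl⟩
  have hdet : g.det = 1 := by rw [hg]; exact g₀.2
  have hch := cayley g hdet
  have hgp : g ^ p = 1 := by
    have h1 : g₀ ^ p = 1 := by rw [← hg₀]; exact pow_orderOf_eq_one g₀
    have h3 := congrArg Subtype.val h1
    rw [hg]
    simpa only [_root_.Matrix.SpecialLinearGroup.coe_pow, _root_.Matrix.SpecialLinearGroup.coe_one] using h3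
  have hne : g ≠ 1 := by
    intro h1
    have h3 : g₀ = 1 := by
      apply Subtype.ext
      rw [← hg, h1]
      rfl
    rw [h3, orderOf_one] at hg₀
    exact hp.out.one_lt.ne hg₀
  -- `g` is not scalar
  have hns : ∀ s : F, g ≠ s • 1 := by
    intro s hs
    have h1 : s * s = 1 := by
      rw [hs] at hdet
      rw [Matrix.det_smul, Matrix.det_one, mul_one, Fintype.card_fin, pow_two] at hdet
      exact hdet
    have h3 : s ^ p = 1 := by
      rw [hs, smul_pow, one_pow] at hgp
      have := congrFun (congrFun hgp 0) 0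
      simpa only [_root_.Fin.isValue, _root_.Matrix.smul_apply, _root_.Matrix.one_apply_eq, _root_.smul_eq_mul, _root_.mul_one] using this
    rcases mul_self_eq_one_iff.1 h1 with h | h
    · rw [h, one_smul] at hs
      exact hne hs
    · rw [h, Odd.neg_one_pow (hp.out.odd_of_ne_two h2)] at h3
      rw [h, h3, one_smul] at hs
      exact hne hs
  refine ⟨g.trace, ?_, ?_⟩
  · intro h4
    obtain ⟨ε, hε, hε2⟩ : ∃ ε : F, ε * ε = 1 ∧ g.trace = 2 * ε := by
      by_cases h20 : (2 : F) = 0
      · refine ⟨1, one_mul 1, ?_⟩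
        have h5 : g.trace * g.trace = 0 := by
          have : (4 : F) = 2 * 2 := by norm_num
          rw [this, h20] at h4
          linear_combination -h4
        rw [h20, zero_mul]
        exact mul_self_eq_zero.1 h5
      · refine ⟨g.trace / 2, ?_, by field_simp⟩
        field_simp
        linear_combination -h4
    have hN : (ε • g - 1) * (ε • g - 1) = 0 := by
      have : (ε • g - 1) * (ε • g - 1) = (ε * ε) • (g * g) - (2 * ε) • g + 1 := by
        rw [sub_mul, mul_sub, mul_sub, smul_mul_smul_comm, one_mul, mul_one, mul_one]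
        module
      rw [this, hch, hε, hε2]
      module
    obtain ⟨r, hr⟩ := CharP.exists F
    have : Fact r.Prime := ⟨CharP.char_is_prime F r⟩
    have h5 : (ε • g) ^ r = 1 := by
      rw [pow_unip hN r]
      have : (r : ℕ) • (ε • g - 1) = ((r : F)) • (ε • g - 1) := (Nat.cast_smul_eq_nsmul F r _).symm
      rw [this, CharP.cast_eq_zero, zero_smul, add_zero]
    have h6 : g ^ (2 * r) = 1 := by
      have h7 : (ε • g) ^ (2 * r) = 1 := by rw [mul_comm, pow_mul, h5, one_pow]
      rw [smul_pow, pow_mul ε, pow_two ε, hε, one_pow, one_smul] at h7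
      exact h7
    have h8 : g₀ ^ (2 * r) = 1 := by
      apply Subtype.ext
      have : ((g₀ ^ (2 * r) : Matrix.SpecialLinearGroup (Fin 2) F) : Matrix (Fin 2) (Fin 2) F) = g ^ (2 * r) := by
        rw [hg]
        simp
      rw [this, h6]
      rfl
    have h9 : p ∣ 2 * r := by rw [← hg₀]; exact orderOf_dvd_of_pow_eq_one h8
    rcases (hp.out.dvd_mul).1 h9 with h | h
    · exact h2 ((Nat.prime_dvd_prime_iff_eq hp.out Nat.prime_two).1 h)
    · have h10 := (Nat.prime_dvd_prime_iff_eq hp.out this.out).1 h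
      apply hpF
      rw [h10]
      exact CharP.cast_eq_zero F r
  · obtain ⟨a, b, hab⟩ := exists_pow g.trace p
    have h1 := hab g hch
    rw [hgp] at h1
    have ha : a = 0 := by
      by_contra ha
      apply hns (a⁻¹ * (1 - b))
      have h3 : a • g = (1 - b) • (1 : Matrix (Fin 2) (Fin 2) F) := by
        rw [sub_smul, one_smul]
        exact eq_sub_of_add_eq h1.symm
      rw [mul_smul, ← h3, smul_smul, inv_mul_cancel₀ ha, one_smul]
    have hb : b = 1 := by
      rw [ha, zero_smul, zero_add] at h1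
      have := congrFun (congrFun h1 0) 0
      simpa using this.symm
    intro x hx
    rw [hab x hx, ha, hb, zero_smul, zero_add, one_smul]

section Plane

variable {F V : Type*} [Field F] [AddCommGroup V] [Module F V] {Q : QuadraticForm F V}

/-- first coordinate -/
def al (Q : QuadraticForm F V) (c : F) (u v : V) : V →ₗ[F] F :=
  (4 - c * c)⁻¹ • ((2 : F) • polarBilin Q u - c • polarBilin Q v)

theorem al_apply (c : F) (u v w : V) : al Q c u v w = (4 - c * c)⁻¹ * (2 * polar Q u w - c * polar Q v w) := by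
  simp only [al, LinearMap.smul_apply, LinearMap.sub_apply, polarBilin_apply_apply, smul_eq_mul]

theorem split_plane {c : F} (hc : 4 - c * c ≠ 0) {u v : V} (hu : Q u = 1) (hv : Q v = 1) (huv : polar Q u v = c) :
    Split Q u v (al Q c u v) (al Q c v u) := by
  have huu : polar Q u u = 2 := by rw [polar_self', hu, mul_one]
  have hvv : polar Q v v = 2 := by rw [polar_self', hv, mul_one]
  have hvu : polar Q v u = c := by rw [polar_comm, huv]
  have key : ∀ a b : F, (4 - c * c)⁻¹ * (2 * a - c * b) = 0 → (4 - c * c)⁻¹ * (2 * b - c * a) = 0 → a = 0 := by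
    intro a b h1 h2
    have h1' := (mul_eq_zero.1 h1).resolve_left (inv_ne_zero hc)
    have h2' := (mul_eq_zero.1 h2).resolve_left (inv_ne_zero hc)
    have h3 : (4 - c * c) * a = 0 := by linear_combination 2 * h1' + c * h2'
    exact (mul_eq_zero.1 h3).resolve_left hc
  refine ⟨?_, ?_, ?_, ?_, ?_, ?_⟩
  · rw [al_apply, huu, hvu]
    have : (2 : F) * 2 - c * c = 4 - c * c := by norm_num
    rw [this, inv_mul_cancel₀ hc]
  · rw [al_apply, huv, hvv]
    ring
  · rw [al_apply, hvu, huu]
    ring
  · rw [al_apply, hvv, huv]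
    have : (2 : F) * 2 - c * c = 4 - c * c := by norm_num
    rw [this, inv_mul_cancel₀ hc]
  · intro w h1 h2
    rw [al_apply] at h1 h2
    exact key _ _ h1 h2
  · intro w h1 h2
    rw [al_apply] at h1 h2
    exact key _ _ h2 h1

theorem refl_refl_apply {c : F} {u v : V} (hu : Q u = 1) (hv : Q v = 1) (huv : polar Q u v = c) (hu0 : Q u ≠ 0)
    (hv0 : Q v ≠ 0) (z : V) : (refl Q u hu0 * refl Q v hv0) z =
      z - polar Q v z • v - (polar Q u z - polar Q v z * c) • u := by
  show refl Q u hu0 (refl Q v hv0 z) = _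
  rw [refl_apply, refl_apply, hu, hv, inv_one, one_mul, one_mul, polar_sub_right, polar_smul_right, huv, smul_eq_mul]

theorem exists_uv (hG : Good Q) (c : F) : ∃ u v : V, Q u = 1 ∧ Q v = 1 ∧ polar Q u v = c := by
  obtain ⟨x, y, h⟩ := hG.exists_hyp
  obtain ⟨z, w, h', h1, h2, h3, h4⟩ := hG.exists_hyp2 h
  refine ⟨x + y, c • x + (z + w), ?_, ?_, ?_⟩
  · rw [Q_add, h.left, h.right, h.pair]; ring
  · rw [Q_add, Q_add, QuadraticMap.map_smul, h.left, h'.left, h'.right, h'.pair, polar_smul_left, polar_add_right,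
      h1, h2]
    simp
  · rw [polar_add_left, polar_add_right, polar_add_right, polar_add_right, polar_add_right, polar_smul_right,
      polar_smul_right, h.polar_left, h.pair', h1, h2, h3, h4]
    simp

/-- the linear map from the coordinates -/
def phi (u v : V) : (Fin 2 → F) →ₗ[F] V where
  toFun e := e 0 • u + e 1 • v
  map_add' a b := by simp only [Pi.add_apply]; module
  map_smul' a b := by simp only [Pi.smul_apply, smul_eq_mul, RingHom.id_apply]; module

/-- the square of the companion matrix -/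
theorem sq_companion (c : F) : (!![c, 1; -1, 0] : Matrix (Fin 2) (Fin 2) F) * !![c, 1; -1, 0] =
    !![c * c - 1, c; -c, -1] := by
  rw [Matrix.mul_fin_two]
  congr 1
  ext i j
  (revert i j; simp only [_root_.Fin.forall_fin_succ, _root_.Nat.succ_eq_add_one, Nat.reduceAdd, _root_.mul_neg, _root_.mul_one, _root_.MulZeroClass.mul_zero, _root_.add_zero, _root_.neg_mul, _root_.one_mul, _root_.neg_zero, _root_.Matrix.cons_val', _root_.Matrix.cons_val_fin_one, Fin.isValue, _root_.Matrix.cons_val_zero, _root_.Matrix.cons_val_succ, _root_.implies_true, _root_.and_true]) <;> (repeat' with_reducible apply And.intro) <;> ring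

theorem companion_rel (c : F) : (!![c, 1; -1, 0] : Matrix (Fin 2) (Fin 2) F) * !![c, 1; -1, 0] =
    c • (!![c, 1; -1, 0] : Matrix (Fin 2) (Fin 2) F) - 1 := by
  rw [sq_companion]
  ext i j
  (revert i j; simp only [_root_.Fin.forall_fin_succ, _root_.Matrix.of_apply, _root_.Matrix.cons_val', _root_.Matrix.cons_val_fin_one, _root_.Matrix.smul_of, _root_.Matrix.smul_cons, _root_.smul_eq_mul, _root_.mul_one, _root_.Matrix.smul_empty, _root_.mul_neg, _root_.MulZeroClass.mul_zero, _root_.Matrix.sub_apply, Fin.isValue, _root_.Matrix.cons_val_zero, _root_.Matrix.cons_val_succ, _root_.IsEmpty.forall_iff, _root_.and_true, _root_.Matrix.one_apply_eq, Nat.reduceAdd, _root_.Fin.succ_zero_eq_one, _root_.ne_eq, _root_.zero_ne_one, _root_.not_false_eq_true, _root_.Matrix.one_apply_ne, _root_.sub_zero, _root_.and_self, _root_.Fin.succ_ne_zero, _root_.zero_sub, _root_.neg_inj, _root_.true_and])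

theorem pow_eq_one_of_plane {p : ℕ} {c : F} (hc : 4 - c * c ≠ 0)
    (hcp : ∀ g : Matrix (Fin 2) (Fin 2) F, g * g = c • g - 1 → g ^ p = 1) {u v : V} (hu : Q u = 1) (hv : Q v = 1)
    (huv : polar Q u v = c) (hu0 : Q u ≠ 0) (hv0 : Q v ≠ 0) : (refl Q u hu0 * refl Q v hv0) ^ p = 1 := by
  obtain ⟨t, ht⟩ : ∃ t, t = refl Q u hu0 * refl Q v hv0 := ⟨_, rfl⟩
  have happ : ∀ z, t z = z - polar Q v z • v - (polar Q u z - polar Q v z * c) • u := by
    rw [ht]; exact refl_refl_apply hu hv huv hu0 hv0
  have huu : polar Q u u = 2 := by rw [polar_self', hu, mul_one]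
  have hvv : polar Q v v = 2 := by rw [polar_self', hv, mul_one]
  have hvu : polar Q v u = c := by rw [polar_comm, huv]
  have h1 : ∀ e : Fin 2 → F, t (phi u v e) = phi u v ((!![c * c - 1, c; -c, -1] : Matrix (Fin 2) (Fin 2) F) *ᵥ e) := by
    intro e
    show t (e 0 • u + e 1 • v) = _ • u + _ • v
    rw [map_add, map_smul, map_smul, happ, happ, huu, hvv, hvu, huv]
    simp only [Matrix.mulVec, dotProduct, Fin.sum_univ_two, Matrix.of_apply, Matrix.cons_val', Matrix.cons_val_zero,
      Matrix.cons_val_one, Matrix.cons_val_fin_one]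
    module
  have h2 : ∀ (n : ℕ) (e : Fin 2 → F), (t ^ n) (phi u v e) =
      phi u v ((!![c * c - 1, c; -c, -1] : Matrix (Fin 2) (Fin 2) F) ^ n *ᵥ e) := by
    intro n
    induction n with
    | zero => intro e; rw [pow_zero, pow_zero, Matrix.one_mulVec]; rfl
    | succ n ih =>
      intro e
      rw [pow_succ, pow_succ, ← Matrix.mulVec_mulVec, ← ih, ← h1]
      rfl
  have hA : (!![c * c - 1, c; -c, -1] : Matrix (Fin 2) (Fin 2) F) ^ p = 1 := by
    rw [← sq_companion, ← pow_two, ← pow_mul, mul_comm, pow_mul, hcp _ (companion_rel c), one_pow]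
  have hsp := split_plane hc hu hv huv
  have h3 : ∀ (n : ℕ) (w : V), al Q c u v w = 0 → al Q c v u w = 0 → (t ^ n) w = w := by
    intro n w hw1 hw2
    have h4 : t w = w := by
      rw [happ, hsp.px w hw1 hw2, hsp.py w hw1 hw2]
      simp
    induction n with
    | zero => rfl
    | succ n ih =>
      rw [pow_succ]
      show (t ^ n) (t w) = w
      rw [h4, ih]
  rw [← ht]
  ext1 z
  obtain ⟨⟨w, a, b⟩, rfl⟩ := (splitEquiv hsp).surjective z
  obtain ⟨m1, m2⟩ := mem_Comp.1 w.2
  have h5 : splitEquiv hsp (w, a, b) = (w : V) + phi u v ![a, b] := by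
    rw [splitEquiv_apply, add_assoc]
    rfl
  rw [h5, map_add, h3 p _ m1 m2, h2, hA, Matrix.one_mulVec]
  rfl

end Plane

variable {ι : Type} [Fintype ι] [DecidableEq ι] {F : Type} [Field F] [Fintype F] {Q : QuadraticForm F (ι → F)}
  {p : ℕ} [hp : Fact p.Prime]

/-- **the case `p ∣ q ^ 2 - 1`** -/
theorem nb_dvd (hG : Good Q) (hd : 7 ≤ Fintype.card ι) (h2 : p ≠ 2) (hdvd : p ∣ Fintype.card F ^ 2 - 1)
    (ih : IH p (Nat.card (POmega F ⇑Q))) : NB p (POmega F ⇑Q) := by
  obtain ⟨c, hc, hcp⟩ := exists_trace (F := F) h2 hdvd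
  obtain ⟨u, v, hu, hv, huv⟩ := exists_uv hG c
  have hu0 : Q u ≠ 0 := by rw [hu]; exact one_ne_zero
  have hv0 : Q v ≠ 0 := by rw [hv]; exact one_ne_zero
  have hsp := split_plane hc hu hv huv
  have happ := refl_refl_apply hu hv huv hu0 hv0
  refine OrthTor.nb_of_split hG hsp hd h2 ⟨refl Q u hu0 * refl Q v hv0, hG.refl_mul_refl_mem hv0 hu0 (hv.trans hu.symm)⟩
    ?_ ?_ ?_ ih
  · apply Subtype.ext
    exact pow_eq_one_of_plane hc hcp hu hv huv hu0 hv0
  · intro w h1 h3
    show (refl Q u hu0 * refl Q v hv0) w = w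
    rw [happ, hsp.px w h1 h3, hsp.py w h1 h3]
    simp
  · intro w hw
    have h1 : (refl Q u hu0 * refl Q v hv0) w = w := hw
    rw [happ] at h1
    have h3 : polar Q v w • v + (polar Q u w - polar Q v w * c) • u = 0 := by
      have h4 : w - (polar Q v w • v + (polar Q u w - polar Q v w * c) • u) = w := by rw [← sub_sub]; exact h1
      exact sub_eq_self.1 h4
    have h4 := congrArg (al Q c v u) h3
    have h5 := congrArg (al Q c u v) h3
    simp only [map_add, map_smul, map_zero, hsp.ax, hsp.ay, hsp.bx, hsp.bY, smul_eq_mul, mul_one, mul_zero, add_zero,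
      zero_add] at h4 h5
    rw [h4, zero_mul, sub_zero] at h5
    rw [al_apply, al_apply, h4, h5]
    simp

end Cfsg.Agent.H107.NB.OrthPlane
end

-- part: H107/NB/OrthStar
section
/-!
# S5003: orthogonal groups, `p` prime to `q (q ^ 2 - 1)`

`K` = the images of the long root elements `siegel Q u w`, `u`, `w` singular and orthogonal.  For `g`, `k` in `K`,
`g k⁻¹` is unipotent or acts as an element `≠ 1` of `SL₂(F)` on a plane: it is a `p`-element only if `g = k`.
-/

set_option autoImplicit false
set_option linter.unusedSectionVars false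

namespace Cfsg.Agent.H107.NB.OrthStar

open QuadraticMap Cfsg Matrix
open Cfsg.Agent.LieClassical.OrthCore Cfsg.Agent.LieClassical.OrthTrans Cfsg.Agent.LieClassical.OrthSimple
open Cfsg.Agent.LieClassical.OrthFinite Cfsg.Agent.GenOrth Cfsg.Agent.TitsThree.KSideO
open Cfsg.Agent.H7.NBp Cfsg.Agent.H107.NB.OrthTor Cfsg.Agent.H107.NB.OrthPlane

section Unip

variable {F V : Type*} [Field F] [AddCommGroup V] [Module F V]

theorem eq_one_of_coprime {G : Type*} [Group G] {y : G} {m n : ℕ} (h1 : y ^ m = 1) (h2 : y ^ n = 1)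
    (h : Nat.Coprime m n) : y = 1 := by
  have h3 : orderOf y ∣ Nat.gcd m n := Nat.dvd_gcd (orderOf_dvd_of_pow_eq_one h1) (orderOf_dvd_of_pow_eq_one h2)
  rw [h] at h3
  exact orderOf_eq_one_iff.1 (Nat.dvd_one.1 h3)

/-- unipotent elements of order prime to the characteristic -/
theorem eq_one_of_unip {r p j : ℕ} [hr : Fact r.Prime] [hp : Fact p.Prime] [CharP F r] (hpr : p ≠ r)
    {y : V ≃ₗ[F] V} (h4 : (((y : V →ₗ[F] V) : Module.End F V) - 1) ^ 4 = 0) (hy : y ^ p ^ j = 1) : y = 1 := by
  rcases subsingleton_or_nontrivial V with h | h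
  · ext1 v
    exact Subsingleton.elim _ _
  have hc : CharP (Module.End F V) r := charP_of_injective_algebraMap (algebraMap F (Module.End F V)).injective r
  obtain ⟨N, hN⟩ : ∃ N : Module.End F V, N = ((y : V →ₗ[F] V) : Module.End F V) - 1 := ⟨_, rfl⟩
  have hy1 : ((y : V →ₗ[F] V) : Module.End F V) = 1 + N := by rw [hN]; abel
  rw [← hN] at h4
  have h5 : ((y : V →ₗ[F] V) : Module.End F V) ^ r ^ 2 = 1 := by
    have hcom : Commute (1 : Module.End F V) N := Commute.one_left N
    rw [hy1, add_pow_char_pow_of_commute r 2 hcom, one_pow]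
    have h6 : 4 ≤ r ^ 2 := by
      have := hr.out.two_le
      nlinarith only [this]
    rw [pow_eq_zero_of_le h6 h4, add_zero]
  have h6 : y ^ r ^ 2 = 1 := by
    ext1 v
    have h7 : ∀ n : ℕ, ((y : V →ₗ[F] V) : Module.End F V) ^ n = (((y ^ n : V ≃ₗ[F] V) : V →ₗ[F] V) : Module.End F V) := by
      intro n
      induction n with
      | zero => rfl
      | succ n ih => rw [pow_succ, pow_succ, ih]; rfl
    rw [h7] at h5
    exact congrArg (fun f : Module.End F V => f v) h5
  refine eq_one_of_coprime hy h6 ?_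
  exact Nat.Coprime.pow _ _ ((Nat.coprime_primes hp.out hr.out).2 hpr)

end Unip

section Pair

variable {F V : Type*} [Field F] [AddCommGroup V] [Module F V] {Q : QuadraticForm F V}

theorem lr_apply {u w : V} (hu : Q u = 0) (hw : Q w = 0) (huw : polar Q u w = 0) (x : V) :
    siegel Q u w hu huw x = x + polar Q u x • w - polar Q w x • u := by
  rw [siegel_apply, hw, zero_mul, zero_smul, sub_zero]

theorem lr_inv_apply {u w : V} (hu : Q u = 0) (hw : Q w = 0) (huw : polar Q u w = 0) (x : V) :
    (siegel Q u w hu huw)⁻¹ x = x - polar Q u x • w + polar Q w x • u := by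
  rw [siegel_inv hu huw (by rw [polar_neg_right, huw, neg_zero]), siegel_apply, QuadraticMap.map_neg, hw,
    polar_neg_left]
  module

/-- the product of two long root elements -/
theorem lr_mul_inv [Fintype F] {p j : ℕ} [hp : Fact p.Prime] (hpF : (p : F) ≠ 0)
    (hd : ¬ p ∣ Fintype.card F ^ 2 - 1) {u w u' w' : V} (hu : Q u = 0) (hw : Q w = 0) (huw : polar Q u w = 0)
    (hu' : Q u' = 0) (hw' : Q w' = 0) (huw' : polar Q u' w' = 0) (hli : ∀ a b : F, a • u + b • w = 0 → a = 0 ∧ b = 0)
    (hy : (siegel Q u w hu huw * (siegel Q u' w' hu' huw')⁻¹) ^ p ^ j = 1) :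
    siegel Q u w hu huw * (siegel Q u' w' hu' huw')⁻¹ = 1 := by
  classical
  obtain ⟨r, hr⟩ := CharP.exists F
  have hrp : Fact r.Prime := ⟨CharP.char_is_prime F r⟩
  have hpr : p ≠ r := by
    rintro rfl
    exact hpF (CharP.cast_eq_zero F p)
  have huu : polar Q u u = 0 := polar_self_of_sing hu
  have hww : polar Q w w = 0 := polar_self_of_sing hw
  have hwu : polar Q w u = 0 := by rw [polar_comm, huw]
  have huu' : polar Q u' u' = 0 := polar_self_of_sing hu'
  have hww' : polar Q w' w' = 0 := polar_self_of_sing hw'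
  have hwu' : polar Q w' u' = 0 := by rw [polar_comm, huw']
  obtain ⟨y, hyd⟩ : ∃ y, y = siegel Q u w hu huw * (siegel Q u' w' hu' huw')⁻¹ := ⟨_, rfl⟩
  rw [← hyd] at hy ⊢
  have happ : ∀ x, y x = siegel Q u w hu huw ((siegel Q u' w' hu' huw')⁻¹ x) := by
    intro x
    rw [hyd]
    rfl
  have hg := lr_apply hu hw huw
  have hk := lr_inv_apply hu' hw' huw'
  obtain ⟨D, hD⟩ : ∃ D, D = polar Q u u' * polar Q w w' - polar Q u w' * polar Q w u' := ⟨_, rfl⟩
  by_cases hD0 : D = 0
  · -- the unipotent case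
    obtain ⟨a, b, hab, h1, h2⟩ : ∃ a b : F, (a ≠ 0 ∨ b ≠ 0) ∧ a * polar Q u u' + b * polar Q w u' = 0 ∧
        a * polar Q u w' + b * polar Q w w' = 0 := by
      by_cases hA : polar Q u u' = 0 ∧ polar Q w u' = 0
      · by_cases hB : polar Q u w' = 0 ∧ polar Q w w' = 0
        · refine ⟨1, 0, Or.inl one_ne_zero, ?_, ?_⟩
          · rw [hA.1, hA.2]; ring
          · rw [hB.1, hB.2]; ring
        · refine ⟨polar Q w w', -polar Q u w', ?_, ?_, ?_⟩
          · by_contra h
            push Not at h
            exact hB ⟨by simpa using h.2, h.1⟩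
          · rw [hA.1, hA.2]; ring
          · ring
      · refine ⟨polar Q w u', -polar Q u u', ?_, ?_, ?_⟩
        · by_contra h
          push Not at h
          exact hA ⟨by simpa using h.2, h.1⟩
        · ring
        · rw [hD0] at hD
          linear_combination hD
    obtain ⟨v, hv⟩ : ∃ v, v = a • u + b • w := ⟨_, rfl⟩
    have hvu : polar Q v u = 0 := by
      rw [hv, polar_add_left, polar_smul_left, polar_smul_left, huu, hwu]; simp
    have hvw : polar Q v w = 0 := by
      rw [hv, polar_add_left, polar_smul_left, polar_smul_left, hww, huw]; simp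
    have hvu' : polar Q v u' = 0 := by
      rw [hv, polar_add_left, polar_smul_left, polar_smul_left]; exact h1
    have hvw' : polar Q v w' = 0 := by
      rw [hv, polar_add_left, polar_smul_left, polar_smul_left]; exact h2
    have huv : polar Q u v = 0 := by rw [polar_comm, hvu]
    have hwv : polar Q w v = 0 := by rw [polar_comm, hvw]
    have huv' : polar Q u' v = 0 := by rw [polar_comm, hvu']
    have hwv' : polar Q w' v = 0 := by rw [polar_comm, hvw']
    have hyv : y v = v := by
      rw [happ, hk, huv', hwv', zero_smul, zero_smul, sub_zero, add_zero, hg, huv, hwv, zero_smul, zero_smul,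
        sub_zero, add_zero]
    -- `k` on `v ⊥`
    have s1 : ∀ x, polar Q v x = 0 → ∃ l : F, siegel Q u w hu huw x = x + l • v := by
      intro x hx
      rw [hv, polar_add_left, polar_smul_left, polar_smul_left, smul_eq_mul, smul_eq_mul] at hx
      rcases hab with ha | hb
      · refine ⟨-(a⁻¹ * polar Q w x), ?_⟩
        rw [hg, hv]
        have h3 : polar Q u x = -(a⁻¹ * b * polar Q w x) := by
          field_simp
          linear_combination hx
        rw [h3]
        match_scalars
        · ring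
        · ring
        · field_simp
      · refine ⟨b⁻¹ * polar Q u x, ?_⟩
        rw [hg, hv]
        have h3 : polar Q w x = -(b⁻¹ * a * polar Q u x) := by
          field_simp
          linear_combination hx
        rw [h3]
        match_scalars
        · ring
        · field_simp
        · ring
    have s2 : ∀ x, polar Q v (y x - x) = 0 := by
      intro x
      rw [happ, hg, hk]
      simp only [polar_sub_right, polar_add_right, polar_smul_right, hvu, hvw, hvu', hvw', smul_zero]
      ring
    have s3 : ∀ x, polar Q v x = 0 → ∃ l : F, y (y x - x) - (y x - x) = l • v := by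
      intro x hx
      have hkx : polar Q v ((siegel Q u' w' hu' huw')⁻¹ x) = 0 := by
        rw [hk]
        simp only [polar_sub_right, polar_add_right, polar_smul_right, hvu', hvw', hx, smul_zero]
        ring
      obtain ⟨l, hl⟩ := s1 _ hkx
      have e1 : y x - x = (polar Q w' x • u' - polar Q u' x • w') + l • v := by
        rw [happ, hl, hk]; abel
      have hx' : polar Q v (polar Q w' x • u' - polar Q u' x • w') = 0 := by
        rw [polar_sub_right, polar_smul_right, polar_smul_right, hvu', hvw']; simp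
      obtain ⟨m, hm⟩ := s1 _ hx'
      have e2 : (siegel Q u' w' hu' huw')⁻¹ (polar Q w' x • u' - polar Q u' x • w') =
          polar Q w' x • u' - polar Q u' x • w' := by
        rw [hk]
        simp only [polar_sub_right, polar_smul_right, huu', hww', huw', hwu', smul_zero, sub_zero, zero_smul,
          add_zero]
      refine ⟨m, ?_⟩
      rw [e1, map_add, map_smul, hyv, happ (_ - _), e2, hm]
      abel
    apply eq_one_of_unip hpr _ hy
    ext x
    show y (y (y (y x - x) - (y x - x)) - (y (y x - x) - (y x - x))) -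
      (y (y (y x - x) - (y x - x)) - (y (y x - x) - (y x - x))) = 0
    obtain ⟨l, hl⟩ := s3 (y x - x) (s2 x)
    rw [hl, map_smul, hyv, sub_self]
  · -- the semisimple case
    exfalso
    obtain ⟨z, hz⟩ : ∃ z, z = polar Q w' u • u' - polar Q u' u • w' := ⟨_, rfl⟩
    have c1 : polar Q u' u = polar Q u u' := polar_comm _ _ _
    have c2 : polar Q w' u = polar Q u w' := polar_comm _ _ _
    have huz : polar Q u z = 0 := by
      rw [hz, polar_sub_right, polar_smul_right, polar_smul_right, smul_eq_mul, smul_eq_mul, c1, c2]; ring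
    have hwz : polar Q w z = -D := by
      rw [hz, polar_sub_right, polar_smul_right, polar_smul_right, smul_eq_mul, smul_eq_mul, c1, c2, hD]; ring
    have hyu : y u = (1 + D) • u + z := by
      have e1 : (siegel Q u' w' hu' huw')⁻¹ u = u + z := by rw [hk, hz]; abel
      rw [happ, e1, map_add, hg, hg, huu, hwu, huz, hwz]
      module
    have hyz : y z = D • u + z := by
      have e1 : (siegel Q u' w' hu' huw')⁻¹ z = z := by
        rw [hk, hz]
        simp only [polar_sub_right, polar_smul_right, huu', hww', huw', hwu', smul_zero, sub_zero, zero_smul,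
          add_zero]
      rw [happ, e1, hg, huz, hwz]
      module
    have hdet : (!![1 + D, D; 1, 1] : Matrix (Fin 2) (Fin 2) F).det = 1 := by
      rw [Matrix.det_fin_two_of]; ring
    obtain ⟨B, hB⟩ : ∃ B : Matrix.SpecialLinearGroup (Fin 2) F, B = ⟨!![1 + D, D; 1, 1], hdet⟩ := ⟨_, rfl⟩
    have h1 : ∀ e : Fin 2 → F, y (phi u z e) = phi u z ((!![1 + D, D; 1, 1] : Matrix (Fin 2) (Fin 2) F) *ᵥ e) := by
      intro e
      show y (e 0 • u + e 1 • z) = _ • u + _ • z
      rw [map_add, map_smul, map_smul, hyu, hyz]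
      simp only [Matrix.mulVec, dotProduct, Fin.sum_univ_two, Matrix.of_apply, Matrix.cons_val', Matrix.cons_val_zero,
        Matrix.cons_val_one, Matrix.cons_val_fin_one]
      module
    have h2 : ∀ (n : ℕ) (e : Fin 2 → F), (y ^ n) (phi u z e) =
        phi u z ((!![1 + D, D; 1, 1] : Matrix (Fin 2) (Fin 2) F) ^ n *ᵥ e) := by
      intro n
      induction n with
      | zero => intro e; rw [pow_zero, pow_zero, Matrix.one_mulVec]; rfl
      | succ n ih =>
        intro e
        rw [pow_succ, pow_succ, ← Matrix.mulVec_mulVec, ← ih, ← h1]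
        rfl
    have hinj : Function.Injective (phi u z : (Fin 2 → F) →ₗ[F] V) := by
      rw [injective_iff_map_eq_zero]
      intro e he
      have h3 : e 0 • u + e 1 • z = 0 := he
      have h4 : e 1 * D = 0 := by
        have h5 : polar Q w (e 0 • u + e 1 • z) = 0 := by rw [h3, polar_zero_right]
        rw [polar_add_right, polar_smul_right, polar_smul_right, hwu, hwz, smul_eq_mul, smul_eq_mul] at h5
        linear_combination -h5
      have h5 : e 1 = 0 := (mul_eq_zero.1 h4).resolve_right hD0
      have h6 : e 0 = 0 := by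
        apply (hli (e 0) 0 _).1
        rw [h5, zero_smul, add_zero] at h3
        rw [h3, zero_smul, add_zero]
      funext i
      fin_cases i
      · exact h6
      · exact h5
    have h3 : B ^ p ^ j = 1 := by
      apply Subtype.ext
      have h4 : ((B ^ p ^ j : Matrix.SpecialLinearGroup (Fin 2) F) : Matrix (Fin 2) (Fin 2) F) =
          !![1 + D, D; 1, 1] ^ p ^ j := by
        rw [Matrix.SpecialLinearGroup.coe_pow]
        congr 1
        rw [hB]
      rw [h4]
      have h5 : ∀ e : Fin 2 → F, (!![1 + D, D; 1, 1] : Matrix (Fin 2) (Fin 2) F) ^ p ^ j *ᵥ e = 1 *ᵥ e := by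
        intro e
        apply hinj
        rw [← h2, hy, Matrix.one_mulVec]
        rfl
      show (!![1 + D, D; 1, 1] : Matrix (Fin 2) (Fin 2) F) ^ p ^ j = 1
      exact Matrix.ext_of_mulVec_single fun i => h5 _
    have h4 : B ^ (Fintype.card F * (Fintype.card F ^ 2 - 1)) = 1 := by
      rw [← Cfsg.Agent.ClassicalGeometry.PSL2Basic.card_SL2]
      exact pow_card_eq_one'
    have h5 : B = 1 := by
      refine eq_one_of_coprime h3 h4 (Nat.Coprime.pow_left _ ((Nat.Prime.coprime_iff_not_dvd hp.out).2 fun h => ?_))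
      rcases (hp.out.dvd_mul).1 h with h | h
      · obtain ⟨n, -, hn⟩ := FiniteField.card F r
        rw [hn] at h
        exact hpr ((Nat.prime_dvd_prime_iff_eq hp.out hrp.out).1 (hp.out.dvd_of_dvd_pow h))
      · exact hd h
    rw [hB] at h5
    have h6 := congrFun (congrFun (congrArg Subtype.val h5) 1) 0
    simp at h6

end Pair

variable {ι : Type} [Fintype ι] [DecidableEq ι] {F : Type} [Field F] [Fintype F] {Q : QuadraticForm F (ι → F)}
  {p : ℕ} [hp : Fact p.Prime]

/-- **the case `p` prime to `q (q ^ 2 - 1)`** -/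
theorem nb_star (hG : Good Q) (hpF : (p : F) ≠ 0) (hd : ¬ p ∣ Fintype.card F ^ 2 - 1) : NB p (POmega F ⇑Q) := by
  have hfin := finite_pomega (Q := Q)
  obtain ⟨u, u₁, h⟩ := hG.exists_hyp
  obtain ⟨w, w₁, h', h1, h2, h3, h4⟩ := hG.exists_hyp2 h
  have hli : ∀ a b : F, a • u + b • w = 0 → a = 0 ∧ b = 0 := by
    intro a b hab
    constructor
    · have h5 : polar Q u₁ (a • u + b • w) = 0 := by rw [hab, polar_zero_right]
      rw [polar_add_right, polar_smul_right, polar_smul_right, h.pair', h3] at h5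
      simpa using h5
    · have h5 : polar Q w₁ (a • u + b • w) = 0 := by rw [hab, polar_zero_right]
      rw [polar_add_right, polar_smul_right, polar_smul_right, h'.pair', polar_comm Q w₁ u, h2] at h5
      simpa using h5
  -- elements of `E Q` which fix a vector
  have key : ∀ y : E Q, (∃ v, v ≠ 0 ∧ y.1 v = v) → ∀ n, toPOmega hG y ^ n = 1 → y ^ n = 1 := by
    rintro y ⟨v, hv0, hv⟩ n hn
    rw [← map_pow] at hn
    obtain ⟨c, -, hc⟩ := scalar_of_ker hG hn
    have h5 : ∀ n : ℕ, (y ^ n).1 v = v := by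
      intro n
      induction n with
      | zero => rfl
      | succ n ih =>
        rw [pow_succ]
        show (y ^ n).1 (y.1 v) = v
        rw [hv, ih]
    have h6 := hc v
    rw [h5] at h6
    have h7 : c = 1 := by
      have h8 : (1 - c) • v = 0 := by rw [sub_smul, one_smul, ← h6, sub_self]
      exact (sub_eq_zero.1 ((smul_eq_zero.1 h8).resolve_right hv0)).symm
    apply Subtype.ext
    ext1 x
    rw [hc, h7, one_smul]
    rfl
  refine NB.of_unique (K := {x | ∃ (u w : ι → F) (hu : Q u = 0) (_ : Q w = 0) (huw : polar Q u w = 0),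
    x = toPOmega hG ⟨siegel Q u w hu huw, siegel_mem_E hu huw⟩}) ?_
    (g := toPOmega hG ⟨siegel Q u w h.left h1, siegel_mem_E h.left h1⟩) ?_ ⟨u, w, h.left, h'.left, h1, rfl⟩ ?_
  · rintro g _ ⟨u, w, hu, hw, huw, rfl⟩
    obtain ⟨g, rfl⟩ := toPOmega_surjective hG g
    have hgO := E_le_O g.2
    have e1 : Q (g.1 u) = 0 := by rw [mem_O.1 hgO, hu]
    have e2 : polar Q (g.1 u) (g.1 w) = 0 := by rw [polar_map hgO, huw]
    refine ⟨g.1 u, g.1 w, e1, by rw [mem_O.1 hgO, hw], e2, ?_⟩
    rw [← map_inv, ← map_mul, ← map_mul]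
    congr 1
    exact Subtype.ext (siegel_conj hgO hu huw e1 e2)
  · rintro ⟨j, hj⟩
    have hfu : (⟨siegel Q u w h.left h1, siegel_mem_E h.left h1⟩ : E Q).1 u = u := by
      show siegel Q u w h.left h1 u = u
      rw [lr_apply h.left h'.left h1, h.polar_left, polar_comm Q w u, h1]
      simp
    have h5 := key _ ⟨u, h.left_ne, hfu⟩ _ hj
    have h6 := lr_mul_inv (j := j) hpF hd h.left h'.left h1 h.left h.left
      (polar_self_of_sing h.left) hli (by
        have e1 : siegel Q u u h.left (polar_self_of_sing h.left) = 1 := by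
          ext1 x
          rw [lr_apply h.left h.left (polar_self_of_sing h.left)]
          show _ = x
          abel
        rw [e1, inv_one, mul_one]
        exact congrArg Subtype.val h5)
    have e1 : siegel Q u u h.left (polar_self_of_sing h.left) = 1 := by
      ext1 x
      rw [lr_apply h.left h.left (polar_self_of_sing h.left)]
      show _ = x
      abel
    rw [e1, inv_one, mul_one] at h6
    have h7 : siegel Q u w h.left h1 u₁ = u₁ := by rw [h6]; rfl
    rw [lr_apply h.left h'.left h1, h.pair, polar_comm Q w u₁, h3, one_smul, zero_smul, sub_zero] at h7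
    exact h'.left_ne (by simpa using h7)
  · rintro _ ⟨u', w', hu', hw', huw', rfl⟩ j hj
    rw [← map_inv, ← map_mul] at hj
    obtain ⟨v, hv0, hv⟩ := exists_perp_ne (Q := Q) ![u, w, u', w'] (lt_of_lt_of_le (by norm_num) hG.dim)
    have v0 : polar Q u v = 0 := hv 0
    have v1 : polar Q w v = 0 := hv 1
    have v2 : polar Q u' v = 0 := hv 2
    have v3 : polar Q w' v = 0 := hv 3
    have h5 := key _ ⟨v, hv0, by
      show siegel Q u w h.left h1 ((siegel Q u' w' hu' huw')⁻¹ v) = v
      rw [lr_inv_apply hu' hw' huw', v2, v3, zero_smul, zero_smul, sub_zero, add_zero, lr_apply h.left h'.left h1,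
        v0, v1, zero_smul, zero_smul, sub_zero, add_zero]⟩ _ hj
    have h6 := lr_mul_inv hpF hd h.left h'.left h1 hu' hw' huw' hli (congrArg Subtype.val h5)
    congr 1
    apply Subtype.ext
    exact (mul_inv_eq_one.1 h6).symm

end Cfsg.Agent.H107.NB.OrthStar
end

-- part: H107/NB/OrthRows
section
/-!
# S5003: the rows of the orthogonal groups (task 2474)

`nb_pomegaOdd`, `nb_pomegaPlus`, `nb_pomegaMinus`.
-/

set_option autoImplicit false

namespace Cfsg.Agent.H107.NB.OrthRows

open QuadraticMap Cfsg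
open Cfsg.Agent.LieClassical.OrthCore Cfsg.Agent.LieClassical.OrthTrans Cfsg.Agent.LieClassical.OrthSimple
open Cfsg.Agent.LieClassical.OrthForms Cfsg.Agent.LieClassical.OrthFinite Cfsg.Agent.GenOrth
open Cfsg.Agent.H7.NBp Cfsg.Agent.H718.NBIH

section

variable {ι : Type} [Fintype ι] [DecidableEq ι] {F : Type} [Field F] [Fintype F] {Q : QuadraticForm F (ι → F)}
  {p : ℕ} [hp : Fact p.Prime]

theorem nb_good (hG : Good Q) (hd : 7 ≤ Fintype.card ι) (h2 : p ≠ 2) (hpF : (p : F) ≠ 0)
    (ih : IH p (Nat.card (POmega F ⇑Q))) : NB p (POmega F ⇑Q) := by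
  by_cases h : p ∣ Fintype.card F ^ 2 - 1
  · exact OrthPlane.nb_dvd hG hd h2 h ih
  · exact OrthStar.nb_star hG hpF h

omit [Fintype F] in
theorem charP_of_cast (h : (p : F) = 0) : CharP F p := by
  obtain ⟨r, hr⟩ := CharP.exists F
  have h1 : r ∣ p := (CharP.cast_eq_zero_iff F r p).1 h
  rcases (Nat.dvd_prime hp.out).1 h1 with h2 | h2
  · rw [h2] at hr
    have := CharP.cast_eq_zero F 1
    rw [Nat.cast_one] at this
    exact absurd this one_ne_zero
  · rw [← h2]
    exact hr

theorem two_ne_zero_of_odd (h : Odd (Fintype.card F)) : (2 : F) ≠ 0 := by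
  intro h2
  obtain ⟨k, hk⟩ := h
  have h3 : ((Fintype.card F : ℕ) : F) = 0 := Nat.cast_card_eq_zero F
  rw [hk] at h3
  push_cast at h3
  rw [h2, zero_mul, zero_add] at h3
  exact one_ne_zero h3

theorem good_odd {m : ℕ} (hm : 2 ≤ m) (h2 : (2 : F) ≠ 0) : Good (oddForm m F) :=
  good_of_finite (nondeg_oddForm m F h2) (by
    rw [Module.finrank_fintype_fun_eq_card]
    simp only [_root_.Fintype.card_sum, _root_.Fintype.card_unique, _root_.Fintype.card_fin]
    omega)

theorem good_plus {m : ℕ} (hm : 3 ≤ m) : Good (plusForm m F) :=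
  good_of_finite (nondeg_plusForm m F) (by
    rw [Module.finrank_fintype_fun_eq_card]
    simp only [_root_.Fintype.card_sum, _root_.Fintype.card_fin]
    omega)

theorem good_minus {m : ℕ} (hm : 2 ≤ m) {a b : F}
    (hab : ∀ z₁ z₂ : F, z₁ ^ 2 + a * z₁ * z₂ + b * z₂ ^ 2 = 0 → z₁ = 0 ∧ z₂ = 0) : Good (minusForm m F a b) :=
  good_of_finite (nondeg_minusForm m F a b hab) (by
    rw [Module.finrank_fintype_fun_eq_card]
    simp only [_root_.Fintype.card_sum, _root_.Fintype.card_fin, _root_.Nat.reduceLeDiff]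
    omega)

end

theorem nb_pomegaOdd {p : ℕ} [Fact p.Prime] (h2 : p ≠ 2) (S : Type) [Group S] [Finite S] [IsSimpleGroup S]
    (h : IsPOmegaOdd S) (ih : IH p (Nat.card S)) : NB p S := by
  obtain ⟨F, i1, i2, m, hm, ho, ⟨e⟩⟩ := h
  by_cases hpF : (p : F) = 0
  · exact NB.of_lie (Or.inr (Or.inr (Or.inr (Or.inl ⟨F, i1, i2, charP_of_cast hpF, m, hm, ho, ⟨e⟩⟩))))
  · have hG := good_odd (F := F) (m := m) (by omega) (two_ne_zero_of_odd ho)
    rw [Nat.card_congr e.toEquiv] at ih
    refine NB.iso e.symm ?_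
    rw [← coe_oddForm] at ih ⊢
    exact nb_good hG (by simp only [_root_.Fintype.card_sum, _root_.Fintype.card_unique, _root_.Fintype.card_fin]; omega) h2 hpF ih

theorem nb_pomegaPlus {p : ℕ} [Fact p.Prime] (h2 : p ≠ 2) (S : Type) [Group S] [Finite S] [IsSimpleGroup S]
    (h : IsPOmegaPlus S) (ih : IH p (Nat.card S)) : NB p S := by
  obtain ⟨F, i1, i2, m, hm, ⟨e⟩⟩ := h
  by_cases hpF : (p : F) = 0
  · exact NB.of_lie (Or.inr (Or.inr (Or.inr (Or.inr (Or.inl ⟨F, i1, i2, charP_of_cast hpF, m, hm, ⟨e⟩⟩)))))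
  · have hG := good_plus (F := F) (m := m) (by omega)
    rw [Nat.card_congr e.toEquiv] at ih
    refine NB.iso e.symm ?_
    rw [← coe_plusForm] at ih ⊢
    exact nb_good hG (by simp only [_root_.Fintype.card_sum, _root_.Fintype.card_fin]; omega) h2 hpF ih

theorem nb_pomegaMinus {p : ℕ} [Fact p.Prime] (h2 : p ≠ 2) (S : Type) [Group S] [Finite S] [IsSimpleGroup S]
    (h : IsPOmegaMinus S) (ih : IH p (Nat.card S)) : NB p S := by
  obtain ⟨F, i1, i2, m, a, b, hm, hab, ⟨e⟩⟩ := h
  by_cases hpF : (p : F) = 0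
  · exact NB.of_lie (Or.inr (Or.inr (Or.inr (Or.inr (Or.inr (Or.inl
      ⟨F, i1, i2, charP_of_cast hpF, m, a, b, hm, hab, ⟨e⟩⟩))))))
  · have hG := good_minus (F := F) (m := m - 1) (by omega) hab
    rw [Nat.card_congr e.toEquiv] at ih
    refine NB.iso e.symm ?_
    rw [← coe_minusForm] at ih ⊢
    exact nb_good hG (by simp only [_root_.Fintype.card_sum, _root_.Fintype.card_fin, _root_.Nat.reduceLeDiff]; omega) h2 hpF ih

end Cfsg.Agent.H107.NB.OrthRows
end

private theorem dce_27e66a00a513 : _root_.True := by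
  try have : _root_.True := by simp only [_root_.Cfsg.Agent.H107.NB.OrthPlane.al.eq_1]
  exact _root_.True.intro
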